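import Groth.Agent.Etcore.CurveAffine
import Groth.Agent.UnramA.SmoothFibreDim
import Groth.Agent.CycA.ProdDim
import Groth.Agent.CurvesB.DimOneTop

/-!
# Two affine charts of a proper integral curve, with prescribed points removed

`curve_dim` : an integral scheme smooth of relative dimension one over a field has dimension one.
`exists_cover` : `Y = U ∪ W`, `U = Y - D`, `W = Y - {y}`, `D ⊇ S` finite, `U`, `W` affine.
-/

set_option autoImplicit false
universe u

open CategoryTheory CategoryTheory.Limits AlgebraicGeometry TopologicalSpace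

namespace Groth.Agent.Sga4h.H883.CurveCover

/-- Dimension of smooth curves. -/
theorem curve_dim {k : Type u} [Field k] {Y : Scheme.{u}} [IsIntegral Y]
    (b : Y ⟶ Spec (CommRingCat.of k)) [SmoothOfRelativeDimension 1 b] :
    topologicalKrullDim Y = 1 := by
  have h0 : Smooth b := SmoothOfRelativeDimension.smooth 1 b
  obtain ⟨V, hV, -, hd⟩ := Groth.Agent.UnramA.SmoothFibreDim.exists_open_dim_eq 1 b (genericPoint Y)
  have : Nonempty V := ⟨⟨_, hV⟩⟩
  rw [← Groth.Agent.CycA.ProdDim.dim_of_isOpenImmersion b V.ι]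
  exact hd.trans (by rw [Nat.cast_one])

/-- Points different from the generic one are closed. -/
theorem isClosed_of_ne {Y : Scheme.{u}} [IsIntegral Y] (hdim : topologicalKrullDim Y = 1) (y : Y)
    (hy : y ≠ genericPoint Y) : IsClosed ({y} : Set Y) := by
  obtain ⟨-, h2⟩ := CurvesB.DimOneTop.topologicalKrullDim_eq_one_iff.1 hdim
  have h3 : ∀ z, y ⤳ z → z = y := (h2 y).resolve_right fun h =>
    hy (h _ (genericPoint_specializes y)).symm
  apply isClosed_of_closure_subset
  intro z hz
  exact h3 z (specializes_iff_mem_closure.mpr hz)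

/-- A curve of finite type over a field has infinitely many closed points. -/
theorem infinite_closedPoints {k : Type u} [Field k] {Y : Scheme.{u}} (b : Y ⟶ Spec (CommRingCat.of k))
    [LocallyOfFiniteType b] [IsIntegral Y] (hdim : topologicalKrullDim Y = 1) :
    {y : Y | IsClosed ({y} : Set Y)}.Infinite := by
  have := Etcore.CurveOpen.jacobsonSpace b
  have h1 : Infinite Y := Etcore.CurveOpen.infinite_of_krullDim_eq_one Y hdim
  intro hfin
  have h2 : (Set.univ : Set Y).Finite := by
    refine (hfin.union (Set.finite_singleton (genericPoint Y))).subset fun y _ => ?_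
    by_cases hy : y = genericPoint Y
    · exact Or.inr hy
    · exact Or.inl (isClosed_of_ne hdim y hy)
  exact Set.infinite_univ h2

/-- Finite sets of closed points are closed. -/
theorem isClosed_of_finite {Y : Type*} [TopologicalSpace Y] {D : Set Y} (hD : D.Finite)
    (h : ∀ x ∈ D, IsClosed ({x} : Set Y)) : IsClosed D := by
  rw [← Set.biUnion_of_singleton D]
  exact hD.isClosed_biUnion h

/-- Two affine charts of a proper integral curve. -/
theorem exists_cover {k : Type u} [Field k] {Y : Scheme.{u}} (b : Y ⟶ Spec (CommRingCat.of k))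
    [IsProper b] [IsIntegral Y] (hdim : topologicalKrullDim Y = 1) (S : Set Y) (hS : S.Finite)
    (hcl : ∀ x ∈ S, IsClosed ({x} : Set Y)) :
    ∃ (D : Finset Y) (y : Y) (U W : Y.Opens), S ⊆ (D : Set Y) ∧ (∀ x ∈ D, IsClosed ({x} : Set Y)) ∧
      D.Nonempty ∧ IsClosed ({y} : Set Y) ∧ y ∉ D ∧ (U : Set Y) = (D : Set Y)ᶜ ∧ (W : Set Y) = {y}ᶜ ∧
      IsAffineOpen U ∧ IsAffineOpen W ∧ U ⊔ W = ⊤ := by
  classical
  have hinf := infinite_closedPoints b hdim
  obtain ⟨d, hd⟩ := hinf.nonempty
  let D : Finset Y := insert d hS.toFinset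
  have hDcl : ∀ x ∈ D, IsClosed ({x} : Set Y) := by
    intro x hx
    rcases Finset.mem_insert.1 hx with rfl | hx
    · exact hd
    · exact hcl x (hS.mem_toFinset.1 hx)
  obtain ⟨y, hy, hyD⟩ := hinf.exists_notMem_finset D
  have hDc : IsClosed (D : Set Y) := isClosed_of_finite D.finite_toSet (fun x hx => hDcl x hx)
  let U : Y.Opens := ⟨(D : Set Y)ᶜ, hDc.isOpen_compl⟩
  let W : Y.Opens := ⟨({y} : Set Y)ᶜ, hy.isOpen_compl⟩
  have hU : (U : Set Y) = (D : Set Y)ᶜ := rfl
  have hW : (W : Set Y) = ({y} : Set Y)ᶜ := rfl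
  refine ⟨D, y, U, W, fun x hx => Finset.mem_coe.2 (Finset.mem_insert_of_mem (hS.mem_toFinset.2 hx)), hDcl,
    ⟨d, Finset.mem_insert_self _ _⟩, hy, hyD, hU, hW, ?_, ?_, ?_⟩
  · refine Etcore.CurveAffine.isAffine_open k Y b hdim U ?_ ?_
    · rw [hU, compl_compl]; exact D.finite_toSet
    · rw [hU, compl_compl]; exact ⟨d, Finset.mem_insert_self _ _⟩
  · refine Etcore.CurveAffine.isAffine_open k Y b hdim W ?_ ?_
    · rw [hW, compl_compl]; exact Set.finite_singleton y
    · rw [hW, compl_compl]; exact Set.singleton_nonempty y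
  · ext x
    simp only [Opens.coe_sup, Opens.coe_top, Set.mem_univ, iff_true, hU, hW]
    by_cases hx : x = y
    · left
      rw [hx]
      exact fun h => hyD (Finset.mem_coe.1 h)
    · right
      exact hx

end Groth.Agent.Sga4h.H883.CurveCover
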