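import Groth.Agent.CohqA.AffineVanish
import Groth.Agent.FormalB.OpenMV
import Groth.Agent.PerfA.QCohSerre
import Mathlib.AlgebraicGeometry.Morphisms.Separated

/-!
# Vanishing of `H^n`, `n ≥ 2`, of quasi-coherent modules on a scheme with two affine charts

`HO_eq_zero` (topological step), `HH_subsingleton_of_inf` (two affine opens with affine intersection),
`HH_subsingleton` (separated scheme), `structureModule_subsingleton` (the case of `O_Y`).
-/

set_option autoImplicit false
universe u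

namespace Groth.Agent.Sga4h.H883.TwoAff

open CategoryTheory Opposite Limits AlgebraicGeometry TopologicalSpace Abelian
open Groth.Agent.CohqA Groth.Agent.FormalB

section Top

variable {X : TopCat.{u}} {F : CohTop.Ab X} {U V W : Opens X} (h₄ : W = U ⊔ V)

include h₄ in
/-- If `H^{n+1}` vanishes on `U` and `V` and `H^n` vanishes on `U ⊓ V`, then `H^{n+1}(U ⊔ V) = 0`. -/
theorem HO_eq_zero (n : ℕ) (hU : Subsingleton (OpenMV.HO F (n + 1) U))
    (hV : Subsingleton (OpenMV.HO F (n + 1) V)) (hUV : Subsingleton (OpenMV.HO F n (U ⊓ V)))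
    (x : OpenMV.HO F (n + 1) W) : x = 0 := by
  obtain ⟨z, hz⟩ := OpenMV.exists_of_rs_eq_zero F h₄ rfl n (h₄ ▸ le_sup_left) (h₄ ▸ le_sup_right) x
    (Subsingleton.elim _ _) (Subsingleton.elim _ _)
  rw [← hz, Subsingleton.elim z 0, map_zero]

end Top

variable {X : Scheme.{u}} {U V : X.Opens}

/-- Two affine opens with affine intersection: no `H^n` for `n ≥ 2` of a quasi-coherent module. -/
theorem HH_subsingleton_of_inf (hU : IsAffineOpen U) (hV : IsAffineOpen V) (hUV : IsAffineOpen (U ⊓ V))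
    (hcov : U ⊔ V = ⊤) (M : X.Modules) (hM : Coh.IsQCoh M) (n : ℕ) (hn : 2 ≤ n) :
    Subsingleton (Coh.HH X M n) := by
  obtain ⟨m, rfl⟩ : ∃ m, n = m + 1 + 1 := ⟨n - 2, by omega⟩
  have h1 : Subsingleton (OpenMV.HO (X := X.toTopCat) (Coh.toAb M) (m + 1 + 1) U) :=
    AffineVanish.HU_subsingleton M _ (by omega) U hU
  have h2 : Subsingleton (OpenMV.HO (X := X.toTopCat) (Coh.toAb M) (m + 1 + 1) V) :=
    AffineVanish.HU_subsingleton M _ (by omega) V hV
  have h3 : Subsingleton (OpenMV.HO (X := X.toTopCat) (Coh.toAb M) (m + 1) (U ⊓ V)) :=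
    AffineVanish.HU_subsingleton M _ (by omega) (U ⊓ V) hUV
  have h4 : ∀ x : SheafH.HU (Coh.toAb M) (m + 1 + 1) (⊤ : Opens X), x = 0 := fun x ↦
    HO_eq_zero (X := X.toTopCat) (W := (⊤ : Opens X)) hcov.symm (m + 1) h1 h2 h3 x
  have h5 : Subsingleton (SheafH.HU (Coh.toAb M) (m + 1 + 1) (⊤ : Opens X)) :=
    ⟨fun x y ↦ (h4 x).trans (h4 y).symm⟩
  exact (SheafH.HEquivHU (Coh.toAb M) (m + 1 + 1) (isTerminalTop (α := Opens X))).toEquiv.subsingleton

/-- Separated scheme covered by two affine opens: no `H^n` for `n ≥ 2` of a quasi-coherent module. -/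
theorem HH_subsingleton [X.IsSeparated] (hU : IsAffineOpen U) (hV : IsAffineOpen V)
    (hcov : U ⊔ V = ⊤) (M : X.Modules) (hM : Coh.IsQCoh M) (n : ℕ) (hn : 2 ≤ n) :
    Subsingleton (Coh.HH X M n) :=
  HH_subsingleton_of_inf hU hV (hU.inf hV) hcov M hM n hn

/-- Same for the structure sheaf. -/
theorem structureModule_subsingleton [X.IsSeparated] (hU : IsAffineOpen U) (hV : IsAffineOpen V)
    (hcov : U ⊔ V = ⊤) (n : ℕ) (hn : 2 ≤ n) : Subsingleton (Coh.HH X (Coh.structureModule X) n) :=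
  HH_subsingleton hU hV hcov _ (PerfA.QCohSerre.isQCoh_unit X) n hn

/-- Form relative to a separated structure morphism to an affine scheme. -/
theorem HH_subsingleton_over {S : Scheme.{u}} [IsAffine S] (f : X ⟶ S) [IsSeparated f] (hU : IsAffineOpen U)
    (hV : IsAffineOpen V) (hcov : U ⊔ V = ⊤) (M : X.Modules) (hM : Coh.IsQCoh M) (n : ℕ) (hn : 2 ≤ n) :
    Subsingleton (Coh.HH X M n) := by
  have : X.IsSeparated := by
    constructor
    rw [← terminal.comp_from f]
    infer_instance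
  exact HH_subsingleton hU hV hcov M hM n hn

/-- Same for the structure sheaf. -/
theorem structureModule_subsingleton_over {S : Scheme.{u}} [IsAffine S] (f : X ⟶ S) [IsSeparated f]
    (hU : IsAffineOpen U) (hV : IsAffineOpen V) (hcov : U ⊔ V = ⊤) (n : ℕ) (hn : 2 ≤ n) :
    Subsingleton (Coh.HH X (Coh.structureModule X) n) :=
  HH_subsingleton_over f hU hV hcov _ (PerfA.QCohSerre.isQCoh_unit X) n hn

end Groth.Agent.Sga4h.H883.TwoAff
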